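import Mathlib
import Cfsg.Agent.Lib.Zsig.Basic

/-! Arithmetic of the element orders of the small Ree groups. -/

set_option autoImplicit false
set_option linter.style.haveILetI false

namespace H32.RP

/-- The maximal element orders of `²G₂(3 ^ (2 m + 1))`. -/
def W (m : ℕ) : Fin 6 → ℕ := ![6, 9, 3 ^ (2 * m + 1) - 1, (3 ^ (2 * m + 1) + 1) / 2,
  3 ^ (2 * m + 1) - 3 ^ (m + 1) + 1, 3 ^ (2 * m + 1) + 3 ^ (m + 1) + 1]

variable {m m' l d : ℕ} {i j : Fin 6}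

theorem g3 {a b : ℕ} (h1 : d ∣ 3 ^ a - 1) (h2 : d ∣ 3 ^ b - 1) : d ∣ 3 ^ a.gcd b - 1 :=
  Nat.pow_sub_one_gcd_pow_sub_one 3 a b ▸ Nat.dvd_gcd h1 h2

theorem sub_dvd {a b : ℕ} (h : a ∣ b) : 3 ^ a - 1 ∣ 3 ^ b - 1 := by
  obtain ⟨c, rfl⟩ := h
  simpa [pow_mul] using Nat.sub_dvd_pow_sub_pow (3 ^ a) 1 c

theorem add_dvd (a : ℕ) : 3 ^ a + 1 ∣ 3 ^ (2 * a) - 1 := by
  refine ⟨3 ^ a - 1, ?_⟩
  rw [← Nat.sq_sub_sq, ← pow_mul, mul_comm]

theorem dvd_two {a : ℕ} (h1 : d ∣ 3 ^ a - 1) (h2 : d ∣ 3 ^ a + 1) : d ∣ 2 := by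
  have := Nat.dvd_sub h2 h1
  have := Nat.pow_pos (n := a) (by norm_num : 0 < 3)
  rwa [show 3 ^ a + 1 - (3 ^ a - 1) = 2 by omega] at *

theorem d728 {x y : ℕ} (h1 : d ∣ 3 ^ (6 * x) - 1) (h2 : d ∣ 3 ^ (6 * y) - 1) (h : x.Coprime y) : d ∣ 728 := by
  have := g3 h1 h2
  rwa [Nat.gcd_mul_left, h.gcd_eq_one] at this

theorem par (hm : 1 ≤ m) : ∃ w s r : ℕ, 3 ≤ w ∧ 3 ∣ w ∧ w % 2 = 1 ∧ s % 2 = 1 ∧ r % 2 = 1 ∧
    3 ^ (2 * m + 1) = 3 * w ^ 2 ∧ 2 * s + 1 = 3 * w ^ 2 ∧ 4 * r = 3 * w ^ 2 + 1 ∧ W m 2 = 2 * s ∧ W m 3 = 2 * r ∧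
    W m 4 + 3 * w = 3 * w ^ 2 + 1 ∧ W m 5 = 3 * w ^ 2 + 3 * w + 1 := by
  have h1 : 3 ≤ 3 ^ m := by simpa using Nat.pow_le_pow_right (by norm_num : 0 < 3) hm
  have h2 : 3 ^ (2 * m + 1) = 3 * (3 ^ m) ^ 2 := by ring
  have h3 : 3 ^ (2 * m + 1) % 8 = 3 := by rw [pow_succ, pow_mul, Nat.mul_mod, Nat.pow_mod]; simp
  have h4 : 3 ^ m % 2 = 1 := by rw [Nat.pow_mod]; simp
  have h5 : 3 * 3 ^ m ≤ 3 ^ (2 * m + 1) := by nlinarith
  have h6 : 3 ^ (m + 1) = 3 * 3 ^ m := by ring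
  refine ⟨3 ^ m, 3 ^ (2 * m + 1) / 2, (3 ^ (2 * m + 1) + 1) / 4, h1, dvd_pow_self 3 (by omega), h4, ?_, ?_, h2,
    ?_, ?_, ?_, ?_, ?_, ?_⟩ <;> (try simp only [W, Matrix.cons_val]) <;> omega

theorem W_fact (hm : 1 ≤ m) : 2 * W m 3 * (W m 4 * W m 5) = 3 ^ (3 * (2 * m + 1)) + 1 := by
  obtain ⟨w, s, r, -, -, -, -, -, h1, -, h3, -, h5, h6, h7⟩ := par hm
  rw [mul_comm 3, pow_mul, h1, h5, h7]
  zify at *
  have : (W m 4 : ℤ) = 3 * w ^ 2 + 1 - 3 * w := by linarith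
  rw [this]
  linear_combination ((3 * w ^ 2 + 1 - 3 * w) * (3 * w ^ 2 + 3 * w + 1) : ℤ) * h3

theorem W_dvd3 (hm : 1 ≤ m) (hj : 3 ≤ j.val) : W m j ∣ 3 ^ (3 * (2 * m + 1)) + 1 := by
  rw [← W_fact hm]
  fin_cases j
  all_goals first | exact absurd hj (by decide) | skip
  · exact (dvd_mul_left _ _).mul_right _
  · exact (dvd_mul_right _ _).mul_left _
  · exact (dvd_mul_left _ _).mul_left _

theorem W_cases (hm : 1 ≤ m) (hj : 2 ≤ j.val) (h : d ∣ W m j) :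
    d ∣ 3 ^ (2 * m + 1) - 1 ∨ d ∣ 3 ^ (3 * (2 * m + 1)) + 1 := by
  by_cases e : j = 2
  · subst e; exact .inl h
  · exact .inr (h.trans (W_dvd3 hm (by omega)))

theorem W_dvd (hm : 1 ≤ m) (hj : 2 ≤ j.val) (h : d ∣ W m j) : d ∣ 3 ^ (6 * (2 * m + 1)) - 1 := by
  rcases W_cases hm hj h with e | e
  · exact e.trans (sub_dvd (dvd_mul_left _ _))
  · exact e.trans (by rw [show 6 * (2 * m + 1) = 2 * (3 * (2 * m + 1)) by ring]; exact add_dvd _)

theorem W_small (hj : ¬ 2 ≤ j.val) (h : d ∣ W m j) : d ∣ 18 := by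
  fin_cases j
  all_goals first | exact absurd (by decide) hj | skip
  · exact h.trans (show 6 ∣ 18 by norm_num)
  · exact h.trans (show 9 ∣ 18 by norm_num)

theorem big_of (hl : l.Prime) (h2 : l ≠ 2) (h3 : l ≠ 3) (h : l ∣ W m j) : 2 ≤ j.val := by
  by_contra e
  rcases (Nat.Prime.dvd_mul hl).1 (show l ∣ 2 * 3 ^ 2 from W_small e h) with a | a
  · exact h2 ((Nat.prime_dvd_prime_iff_eq hl Nat.prime_two).1 a)
  · exact h3 (Nat.prime_eq_prime_of_dvd_pow hl Nat.prime_three a)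

theorem not3 (hm : 1 ≤ m) (hj : 2 ≤ j.val) : ¬ 3 ∣ W m j := fun h => by
  have h1 := W_dvd hm hj h
  have h2 : 3 ∣ 3 ^ (6 * (2 * m + 1)) := dvd_pow_self 3 (by omega)
  have := Nat.pow_pos (n := 6 * (2 * m + 1)) (by norm_num : 0 < 3)
  omega

theorem not4 (hm : 1 ≤ m) (j : Fin 6) : ¬ 4 ∣ W m j := by
  obtain ⟨w, s, r, -, -, a, b, c, -, h2, h3, h4, h5, h6, h7⟩ := par hm
  fin_cases j
  · exact (by norm_num : ¬ 4 ∣ 6)
  · exact (by norm_num : ¬ 4 ∣ 9)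
  · change ¬ 4 ∣ W m 2; omega
  · change ¬ 4 ∣ W m 3; omega
  · change ¬ 4 ∣ W m 4; omega
  · change ¬ 4 ∣ W m 5; omega

theorem not27 (hm : 1 ≤ m) (j : Fin 6) : ¬ 27 ∣ W m j := fun h => by
  by_cases e : 2 ≤ j.val
  · exact not3 hm e (Dvd.dvd.trans (by norm_num) h)
  · exact absurd (W_small e h) (by norm_num)

theorem odd4 (hm : 1 ≤ m) : ¬ 2 ∣ W m 4 := by
  obtain ⟨w, s, r, -, -, a, b, c, -, h2, h3, h4, h5, h6, h7⟩ := par hm
  omega

theorem odd5 (hm : 1 ≤ m) : ¬ 2 ∣ W m 5 := by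
  obtain ⟨w, s, r, -, -, a, b, c, -, h2, h3, h4, h5, h6, h7⟩ := par hm
  omega

theorem not21 (hm : 1 ≤ m) (h3 : 3 ∣ W m j) : ¬ 7 ∣ W m j := fun h7 =>
  not3 hm (big_of (by norm_num) (by norm_num) (by norm_num) h7) h3

theorem W_lt (hm : 1 ≤ m) (hl : l.Prime) (h2 : l ≠ 2) (hi : 2 ≤ i.val) (hij : i < j) (h1 : l ∣ W m i) :
    ¬ l ∣ W m j := fun h3 => by
  have n3 : l ≠ 3 := fun e => not3 hm hi (e ▸ h1)
  have k2 : ∀ {x}, l ∣ 2 * x → l ∣ x := fun h => ((Nat.Prime.dvd_mul hl).1 h).resolve_left fun a =>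
    h2 ((Nat.prime_dvd_prime_iff_eq hl Nat.prime_two).1 a)
  have k3 : ∀ {x}, l ∣ 3 * x → l ∣ x := fun h => ((Nat.Prime.dvd_mul hl).1 h).resolve_left fun a =>
    n3 ((Nat.prime_dvd_prime_iff_eq hl Nat.prime_three).1 a)
  by_cases e : i = 2
  · subst e
    exact hl.ne_one (Nat.dvd_one.1 (k2 (dvd_two (h1.trans (sub_dvd (dvd_mul_left _ 3)))
      (h3.trans (W_dvd3 hm hij)))))
  obtain ⟨w, s, r, -, -, -, -, -, -, -, h4, -, h5, h6, h7⟩ := par hm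
  have fin : l ∣ w → l ∣ 3 * w ^ 2 + 1 → False := fun a b => hl.ne_one (Nat.dvd_one.1
    ((Nat.dvd_add_right ((a.trans (dvd_pow_self w two_ne_zero)).mul_left 3)).1 b))
  have q3 : l ∣ W m 3 → l ∣ 3 * w ^ 2 + 1 := fun a => by
    rw [← h4, show 4 * r = 2 * (2 * r) by ring, ← h5]; exact a.mul_left 2
  fin_cases i <;> fin_cases j
  all_goals first | (exfalso; revert hi hij e; decide) | skip
  · have a := q3 h1
    exact fin (k3 ((Nat.dvd_add_right h3).1 (h6 ▸ a))) a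
  · have a := q3 h1
    have b : l ∣ 3 * w ^ 2 + 1 + 3 * w := by rw [add_right_comm, ← h7]; exact h3
    exact fin (k3 ((Nat.dvd_add_right a).1 b)) a
  · have b : l ∣ W m 4 + 2 * (3 * w) := by rw [show W m 4 + 2 * (3 * w) = W m 5 by omega]; exact h3
    have c := k2 ((Nat.dvd_add_right h1).1 b)
    exact fin (k3 c) (h6 ▸ dvd_add h1 c)

theorem W_eq (hm : 1 ≤ m) (hl : l.Prime) (h2 : l ≠ 2) (h3 : l ≠ 3) (h1 : l ∣ W m i) (h4 : l ∣ W m j) : i = j := by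
  rcases lt_trichotomy i j with e | e | e
  · exact absurd h4 (W_lt hm hl h2 (big_of hl h2 h3 h1) e h1)
  · exact e
  · exact absurd h1 (W_lt hm hl h2 (big_of hl h2 h3 h4) e h4)

theorem avoid (hm : 1 ≤ m) (hl : l.Prime) : ∃ j : Fin 6, 2 ≤ j.val ∧ ¬ l ∣ W m j := by
  by_cases e : l ∣ W m 4
  · exact ⟨5, by decide, W_lt hm hl (fun a => odd4 hm (a ▸ e)) (by decide) (by decide) e⟩
  · exact ⟨4, by decide, e⟩

theorem not5 (hm : 1 ≤ m) (j : Fin 6) : ¬ 5 ∣ W m j := fun h =>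
  absurd (d728 (y := 2) (W_dvd hm (big_of (by norm_num) (by norm_num) (by norm_num) h) h) (by norm_num)
    (Nat.coprime_two_right.2 ⟨m, rfl⟩)) (by norm_num)

theorem not7 : ¬ 7 ∣ W m 2 := fun h => by
  have h1 : 7 ∣ 3 ^ ((2 * m + 1).gcd 6) - 1 := g3 h (by norm_num)
  have h2 : (2 * m + 1).gcd 6 ∣ 3 := (Nat.Coprime.coprime_dvd_left (Nat.gcd_dvd_left _ _)
    (Nat.coprime_two_right.2 ⟨m, rfl⟩)).dvd_of_dvd_mul_left (Nat.gcd_dvd_right _ _)
  rcases (Nat.dvd_prime Nat.prime_three).1 h2 with e | e <;> rw [e] at h1 <;> norm_num at h1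

/-- a primitive prime divisor -/
theorem zs (hm' : 1 ≤ m') : ∃ r : ℕ, r.Prime ∧ r ∣ W m' 2 ∧
    ∀ m j, 1 ≤ m → r ∣ W m j → 2 * m' + 1 ∣ 2 * m + 1 := by
  obtain ⟨r, hr, h1, h2⟩ := H69.Zsig.zsigmondy (a := 3) (n := 2 * m' + 1) (by norm_num) (by omega) (by omega)
    (by omega)
  have key : ∀ a, r ∣ 3 ^ a - 1 → 2 * m' + 1 ∣ a := fun a ha => by
    by_contra e
    refine h2 _ (Nat.gcd_pos_of_pos_left _ (by omega)) (lt_of_le_of_ne (Nat.gcd_le_left _ (by omega))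
      fun e' => e (e' ▸ Nat.gcd_dvd_right _ _)) (g3 h1 ha)
  have r2 : ¬ r ∣ 2 := h2 1 (by norm_num) (by omega)
  refine ⟨r, hr, h1, fun m j hm h => ?_⟩
  have hj := big_of hr (fun e => r2 (e ▸ dvd_rfl)) (fun e => not3 hm' (j := 2) (by decide) (e ▸ h1)) h
  rcases W_cases hm hj h with e | e
  · exact key _ e
  · have := key _ (e.trans (add_dvd _))
    exact absurd (dvd_two (h1.trans (sub_dvd ((Nat.coprime_two_right.2 ⟨m', rfl⟩).dvd_of_dvd_mul_left this))) e) r2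

/-- the exponent is a prime `≥ 17` -/
def Nice (m : ℕ) : Prop := (2 * m + 1).Prime ∧ 8 ≤ m

theorem Nice.one_le (h : Nice m) : 1 ≤ m := le_trans (by norm_num) h.2

theorem Nice.cop (h : Nice m) {c : ℕ} (h0 : 0 < c) (hc : c < 2 * m + 1) : (2 * m + 1).Coprime c :=
  (Nat.Prime.coprime_iff_not_dvd h.1).2 fun e => absurd (Nat.le_of_dvd h0 e) (by omega)

theorem Nice.not13 (h : Nice m) (j : Fin 6) : ¬ 13 ∣ W m j := fun e => by
  have := h.2
  rcases W_cases h.one_le (big_of (by norm_num) (by norm_num) (by norm_num) e) e with a | a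
  · have := g3 a (b := 3) (by norm_num)
    rw [(h.cop (by norm_num) (by omega)).gcd_eq_one] at this
    norm_num at this
  · exact absurd (dvd_two (Dvd.dvd.trans (by norm_num : 13 ∣ 3 ^ 3 - 1) (sub_dvd (dvd_mul_right _ _))) a)
      (by norm_num)

/-- a prime of the class `j` -/
structure Cl (m : ℕ) (j : Fin 6) (l : ℕ) : Prop where
  prime : l.Prime
  dvd : l ∣ W m j
  n2 : l ≠ 2
  n3 : l ≠ 3
  n7 : l ≠ 7

theorem Cl.big (h : Cl m j l) : 2 ≤ j.val := big_of h.prime h.n2 h.n3 h.dvd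

theorem Cl.exp (hm : Nice m) (h : Cl m j l) {n : ℕ} (hn : l ∣ 3 ^ (6 * n) - 1) : 2 * m + 1 ∣ n := by
  by_contra e
  have h1 := d728 (W_dvd hm.one_le h.big h.dvd) hn ((Nat.Prime.coprime_iff_not_dvd hm.1).2 e)
  rcases (Nat.Prime.dvd_mul h.prime).1 (show l ∣ 2 ^ 3 * (7 * 13) from h1) with a | a
  · exact h.n2 (Nat.prime_eq_prime_of_dvd_pow h.prime Nat.prime_two a)
  rcases (Nat.Prime.dvd_mul h.prime).1 a with a | a
  · exact h.n7 ((Nat.prime_dvd_prime_iff_eq h.prime (by norm_num)).1 a)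
  · exact hm.not13 j ((Nat.prime_dvd_prime_iff_eq h.prime (by norm_num)).1 a ▸ h.dvd)

theorem Cl.eq (hm : Nice m) (hm' : Nice m') (h : Cl m j l) (h1 : l ∣ W m' i) : m = m' ∧ j = i := by
  have := (Nat.prime_dvd_prime_iff_eq hm.1 hm'.1).1
    (h.exp hm (W_dvd hm'.one_le (big_of h.prime h.n2 h.n3 h1) h1))
  obtain rfl : m = m' := by omega
  exact ⟨rfl, W_eq hm.one_le h.prime h.n2 h.n3 h.dvd h1⟩

theorem Nice.exists_cl (h : Nice m) (hj : 2 ≤ j.val) : ∃ l, Cl m j l := by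
  have h8 := h.2
  have n49 : ¬ 7 ^ 2 ∣ W m j := fun e => absurd (d728 (y := 7) (W_dvd h.one_le hj e) (by norm_num)
    (h.cop (by norm_num) (by omega))) (by norm_num)
  have big : 14 < W m j := by
    obtain ⟨w, s, r, a, -, -, -, -, h1, h2, h3, h4, h5, h6, h7⟩ := par h.one_le
    have b : 3 ^ 5 ≤ 3 ^ (2 * m + 1) := Nat.pow_le_pow_right (by norm_num) (by omega)
    have c : 9 ≤ w := by nlinarith
    have : 9 * w ≤ w ^ 2 := by nlinarith
    fin_cases j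
    all_goals first | exact absurd hj (by decide) | skip
    · change 14 < W m 2; omega
    · change 14 < W m 3; omega
    · change 14 < W m 4; omega
    · change 14 < W m 5; omega
  by_contra! e
  have key : ∀ l, l.Prime → l ∣ W m j → l = 2 ∨ l = 7 := fun l hl hd => by
    by_contra! a
    exact e l ⟨hl, hd, a.1, fun b => not3 h.one_le hj (b ▸ hd), a.2⟩
  have : W m j ∣ 14 := by
    refine (Nat.dvd_iff_prime_pow_dvd_dvd _ _).2 fun p k hp hk => ?_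
    rcases k with _ | k
    · simp
    rcases key p hp ((dvd_pow_self p k.succ_ne_zero).trans hk) with rfl | rfl
    · rcases k with _ | k
      · norm_num
      · exact absurd ((pow_dvd_pow 2 (by omega : 2 ≤ k + 1 + 1)).trans hk) (not4 h.one_le j)
    · rcases k with _ | k
      · norm_num
      · exact absurd ((pow_dvd_pow 7 (by omega : 2 ≤ k + 1 + 1)).trans hk) n49
  exact absurd (Nat.le_of_dvd (by norm_num) this) (by omega)

/-- the order of a field automorphism does not occur -/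
theorem Nice.not_exp (h : Nice m) (h' : Nice m') (hc : m' ≤ m ∨ 3 ^ (6 * (2 * m + 1)) < 2 * m' + 1) (j : Fin 6) :
    ¬ 2 * m' + 1 ∣ W m j := fun e => by
  have h8 := h'.2
  have h1 := W_dvd h.one_le (big_of h'.1 (by omega) (by omega) e) e
  rcases hc with c | c
  · haveI := Fact.mk h'.1
    have h2 : 2 * m' + 1 ∣ 3 ^ (2 * m') - 1 := by
      have := Nat.ModEq.pow_totient (x := 3) (n := 2 * m' + 1) (h'.cop (by norm_num) (by omega)).symm
      rw [Nat.totient_prime h'.1] at this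
      exact (Nat.modEq_iff_dvd' (Nat.pow_pos (by norm_num))).1 this.symm
    have h3 := d728 h1 (h2.trans (sub_dvd (dvd_mul_left _ 6))) (h.cop (by omega) (by omega))
    rcases (Nat.Prime.dvd_mul h'.1).1 (show 2 * m' + 1 ∣ 8 * (7 * 13) from h3) with a | a
    · exact absurd (Nat.le_of_dvd (by norm_num) a) (by omega)
    rcases (Nat.Prime.dvd_mul h'.1).1 a with a | a <;> exact absurd (Nat.le_of_dvd (by norm_num) a) (by omega)
  · have := Nat.one_lt_pow (n := 6 * (2 * m + 1)) (a := 3) (by omega) (by norm_num)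
    exact absurd (Nat.le_of_dvd (by omega) h1) (by omega)

theorem exists_seq : ∃ M : ℕ → ℕ, StrictMono M ∧ (∀ i, Nice (M i)) ∧
    ∀ i j, M j ≤ M i ∨ 3 ^ (6 * (2 * M i + 1)) < 2 * M j + 1 := by
  have key : ∀ m : ℕ, ∃ m', Nice m' ∧ m < m' ∧ 3 ^ (6 * (2 * m + 1)) < 2 * m' + 1 := fun m => by
    generalize 3 ^ (6 * (2 * m + 1)) = N
    obtain ⟨p, h1, hp⟩ := Nat.exists_infinite_primes (N + 2 * m + 18)
    obtain ⟨k, rfl⟩ := hp.odd_of_ne_two (by omega)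
    exact ⟨k, ⟨hp, by omega⟩, by omega, by omega⟩
  choose f h1 h2 h3 using key
  have hs : StrictMono fun i => f^[i + 1] 0 := strictMono_nat_of_lt_succ fun i => by
    rw [Function.iterate_succ_apply' f (i + 1)]; exact h2 _
  refine ⟨_, hs, fun i => by rw [Function.iterate_succ_apply']; exact h1 _, fun i j => ?_⟩
  rcases le_or_gt j i with e | e
  · exact .inl (hs.monotone e)
  · have := hs.monotone (show i + 1 ≤ j from e)
    rw [Function.iterate_succ_apply' f (i + 1)] at this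
    exact .inr (lt_of_lt_of_le (h3 _) (by omega))

end H32.RP
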